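/-
The identities behind the count of unipotent symplectic isometries.
-/
import Mathlib

set_option autoImplicit false

namespace Cfsg.Agent.SpUnipotent1

variable (q : ℕ)

/-- `binom(k,2)`. -/
def tri : ℕ → ℕ
  | 0 => 0
  | k + 1 => tri k + k

/-- Exponent of the kernel of the restriction for a fixed isotropic `k`-tuple in dimension `2m`. -/
def expo : ℕ → ℕ → ℕ
  | _, 0 => 0
  | 0, _ + 1 => 0
  | m + 1, k + 1 => (2 * (m + 1) - (k + 1)) + expo m k

/-- The number of isotropic independent `k`-tuples in dimension `2m`. -/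
def tup : ℕ → ℕ → ℕ
  | _, 0 => 1
  | 0, _ + 1 => 0
  | m + 1, k + 1 => (q ^ (2 * (m + 1)) - 1) * q ^ k * tup m k

/-- The number of bases of a `k`-space. -/
def bas : ℕ → ℕ
  | 0 => 1
  | k + 1 => (q ^ (k + 1) - 1) * q ^ k * bas k

/-- The number of totally isotropic `k`-subspaces in dimension `2m`. -/
def iso : ℕ → ℕ → ℕ
  | _, 0 => 1
  | 0, _ + 1 => 0
  | m + 1, k + 1 => (1 + q ^ (2 * m + 1 - k)) * iso m k + q ^ (k + 1) * iso m (k + 1)

theorem tup_eq_zero : ∀ {m k : ℕ}, m < k → tup q m k = 0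
  | _, 0, h => absurd h (Nat.not_lt_zero _)
  | 0, _ + 1, _ => rfl
  | m + 1, k + 1, h => by rw [tup, tup_eq_zero (by omega : m < k), mul_zero]

theorem iso_eq_zero : ∀ {m k : ℕ}, m < k → iso q m k = 0
  | _, 0, h => absurd h (Nat.not_lt_zero _)
  | 0, _ + 1, _ => rfl
  | m + 1, k + 1, h => by
    rw [iso, iso_eq_zero (by omega : m < k), iso_eq_zero (by omega : m < k + 1), mul_zero, mul_zero, add_zero]

theorem tup_succ : ∀ m k : ℕ, tup q m (k + 1) = tup q m k * ((q ^ (2 * (m - k)) - 1) * q ^ k)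
  | 0, k => by simp [tup]
  | m + 1, 0 => by simp [tup]
  | m + 1, k + 1 => by
    rw [tup, tup_succ m k, show tup q (m + 1) (k + 1) = (q ^ (2 * (m + 1)) - 1) * q ^ k * tup q m k from rfl,
      Nat.add_sub_add_right]
    ring

theorem bas_pos (hq : 2 ≤ q) : ∀ k, 0 < bas q k
  | 0 => one_pos
  | k + 1 => by
    have h1 : 1 < q ^ (k + 1) := Nat.one_lt_pow (by omega) hq
    exact Nat.mul_pos (Nat.mul_pos (by omega) (pow_pos (by omega) _)) (bas_pos hq k)

theorem bas_eq (hq : 1 ≤ q) : ∀ k : ℕ, bas q k = ∏ i : Fin k, (q ^ k - q ^ (i : ℕ))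
  | 0 => by simp [bas]
  | k + 1 => by
    have h : ∀ i : Fin k, q ^ (k + 1) - q ^ ((Fin.succ i : Fin (k + 1)) : ℕ) = q * (q ^ k - q ^ (i : ℕ)) := fun i => by
      rw [Fin.val_succ, Nat.mul_sub, ← pow_succ', ← pow_succ']
    rw [Fin.prod_univ_succ, Finset.prod_congr rfl fun i _ => h i, Finset.prod_mul_distrib, Finset.prod_const,
      Finset.card_univ, Fintype.card_fin, ← bas_eq hq k, bas, Fin.val_zero, pow_zero]
    ring

theorem iso_mul_bas (hq : 1 ≤ q) : ∀ m k : ℕ, iso q m k * bas q k = tup q m k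
  | _, 0 => by simp [iso, bas, tup]
  | 0, k + 1 => by simp [iso, tup]
  | m + 1, k + 1 => by
    rcases Nat.lt_or_ge m k with hmk | hmk
    · rw [iso_eq_zero q (by omega : m + 1 < k + 1), tup_eq_zero q (by omega : m + 1 < k + 1), zero_mul]
    have h1 := iso_mul_bas hq m k
    have h2 := iso_mul_bas hq m (k + 1)
    have h3 := tup_succ q m k
    obtain ⟨j, rfl⟩ := Nat.exists_eq_add_of_le hmk
    rw [Nat.add_sub_cancel_left] at h3
    have key : (1 + q ^ (2 * (k + j) + 1 - k)) * (q ^ (k + 1) - 1) + q ^ (k + 1) * (q ^ (2 * j) - 1) =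
        q ^ (2 * (k + j + 1)) - 1 := by
      have a1 : 1 ≤ q ^ (k + 1) := Nat.one_le_pow _ _ hq
      have a2 : 1 ≤ q ^ (2 * j) := Nat.one_le_pow _ _ hq
      have a3 : 1 ≤ q ^ (2 * (k + j + 1)) := Nat.one_le_pow _ _ hq
      rw [show 2 * (k + j) + 1 - k = k + 2 * j + 1 by omega]
      zify [a1, a2, a3]
      ring
    calc iso q (k + j + 1) (k + 1) * bas q (k + 1)
        = (1 + q ^ (2 * (k + j) + 1 - k)) * (q ^ (k + 1) - 1) * q ^ k * (iso q (k + j) k * bas q k) +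
            q ^ (k + 1) * (iso q (k + j) (k + 1) * bas q (k + 1)) := by rw [iso, bas]; ring
      _ = ((1 + q ^ (2 * (k + j) + 1 - k)) * (q ^ (k + 1) - 1) + q ^ (k + 1) * (q ^ (2 * j) - 1)) *
            q ^ k * tup q (k + j) k := by rw [h1, h2, h3]; ring
      _ = tup q (k + j + 1) (k + 1) := by rw [key]; rfl

theorem expo_add : ∀ k j : ℕ, expo (k + j) k + tri k + 2 * j ^ 2 = (k + j) ^ 2 + j ^ 2
  | 0, j => by simp [expo, tri]; ring
  | k + 1, j => by
    have h := expo_add k j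
    rw [show k + 1 + j = (k + j) + 1 by omega, expo, tri,
      show 2 * (k + j + 1) - (k + 1) = k + 2 * j + 1 by omega]
    linear_combination h

/-- `∑ (-1)^k q^binom(k,2) N(m,k) = (-1)^m q^(m^2)`. -/
theorem sum_iso_tri : ∀ m : ℕ, ∑ k ∈ Finset.range (m + 1), (-1 : ℤ) ^ k * (q : ℤ) ^ tri k * (iso q m k : ℤ) =
    (-1) ^ m * (q : ℤ) ^ (m ^ 2)
  | 0 => by simp [iso, tri]
  | m + 1 => by
    have h2 : ∑ k ∈ Finset.range (m + 1), (-1 : ℤ) ^ k * (q : ℤ) ^ (tri k + k) * (q : ℤ) ^ (2 * m + 1 - k) * (iso q m k : ℤ) =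
        (q : ℤ) ^ (2 * m + 1) * ((-1) ^ m * (q : ℤ) ^ (m ^ 2)) := by
      rw [← sum_iso_tri m, Finset.mul_sum]
      refine Finset.sum_congr rfl fun k hk => ?_
      rw [Finset.mem_range] at hk
      rw [show (q : ℤ) ^ (2 * m + 1) = (q : ℤ) ^ k * (q : ℤ) ^ (2 * m + 1 - k) by
        rw [← pow_add]; congr 1; omega, pow_add]
      ring
    have h3 : ∑ k ∈ Finset.range (m + 1), (-1 : ℤ) ^ (k + 1) * (q : ℤ) ^ tri (k + 1) * ((q : ℤ) ^ (k + 1) * (iso q m (k + 1) : ℤ)) =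
        ∑ k ∈ Finset.range (m + 1), (-1 : ℤ) ^ k * (q : ℤ) ^ (tri k + k) * (iso q m k : ℤ) - 1 := by
      have hs := Finset.sum_range_succ' (fun k => (-1 : ℤ) ^ k * (q : ℤ) ^ (tri k + k) * (iso q m k : ℤ)) (m + 1)
      rw [Finset.sum_range_succ] at hs
      have hz : (iso q m (m + 1) : ℤ) = 0 := by simp [iso_eq_zero q (Nat.lt_succ_self m)]
      have h0 : iso q m 0 = 1 := by cases m <;> rfl
      simp only [hz, h0, tri, mul_zero, add_zero, pow_zero, Nat.cast_one, mul_one] at hs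
      rw [hs, add_sub_cancel_right]
      refine Finset.sum_congr rfl fun k _ => ?_
      rw [show tri (k + 1) = tri k + k from rfl]; ring
    have hexp : ∀ k, (-1 : ℤ) ^ (k + 1) * (q : ℤ) ^ tri (k + 1) * (iso q (m + 1) (k + 1) : ℤ) =
        -((-1 : ℤ) ^ k * (q : ℤ) ^ (tri k + k) * (iso q m k : ℤ)) -
        ((-1 : ℤ) ^ k * (q : ℤ) ^ (tri k + k) * (q : ℤ) ^ (2 * m + 1 - k) * (iso q m k : ℤ)) +
        (-1 : ℤ) ^ (k + 1) * (q : ℤ) ^ tri (k + 1) * ((q : ℤ) ^ (k + 1) * (iso q m (k + 1) : ℤ)) := fun k => by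
      rw [iso, show tri (k + 1) = tri k + k from rfl]; push_cast; ring
    rw [Finset.sum_range_succ', Finset.sum_congr rfl fun k _ => hexp k, Finset.sum_add_distrib,
      Finset.sum_sub_distrib, Finset.sum_neg_distrib, h2, h3]
    simp only [tri, iso, pow_zero, Nat.cast_one, mul_one]
    ring

/-- `∑ (-1)^k N(m,k) q^((m-k)^2) = (-1)^m`. -/
theorem sum_iso_sq : ∀ m : ℕ, ∑ k ∈ Finset.range (m + 1), (-1 : ℤ) ^ k * (iso q m k : ℤ) * (q : ℤ) ^ ((m - k) ^ 2) =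
    (-1) ^ m
  | 0 => by simp [iso]
  | m + 1 => by
    set f : ℕ → ℤ := fun k => (-1 : ℤ) ^ k * (q : ℤ) ^ k * (iso q m k : ℤ) * (q : ℤ) ^ ((m + 1 - k) ^ 2) with hf
    have hexp : ∀ k ∈ Finset.range (m + 1), (-1 : ℤ) ^ (k + 1) * (iso q (m + 1) (k + 1) : ℤ) * (q : ℤ) ^ ((m + 1 - (k + 1)) ^ 2) =
        -((-1 : ℤ) ^ k * (iso q m k : ℤ) * (q : ℤ) ^ ((m - k) ^ 2)) - f k + f (k + 1) := fun k hk => by
      rw [Finset.mem_range] at hk
      have he : (m + 1 - k) ^ 2 + k = (m - k) ^ 2 + (2 * m + 1 - k) := by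
        obtain ⟨j, rfl⟩ := Nat.exists_eq_add_of_le (Nat.le_of_lt_succ hk)
        rw [show k + j + 1 - k = j + 1 by omega, Nat.add_sub_cancel_left,
          show 2 * (k + j) + 1 - k = k + 2 * j + 1 by omega]
        ring
      have hpe : (q : ℤ) ^ k * (q : ℤ) ^ ((m + 1 - k) ^ 2) = (q : ℤ) ^ ((m - k) ^ 2) * (q : ℤ) ^ (2 * m + 1 - k) := by
        rw [← pow_add, ← pow_add, ← he, Nat.add_comm]
      simp only [hf, Nat.add_sub_add_right]
      rw [iso]
      push_cast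
      linear_combination ((-1 : ℤ) ^ k * (iso q m k : ℤ)) * hpe
    have h0 : f 0 = (q : ℤ) ^ ((m + 1) ^ 2) := by
      have : iso q m 0 = 1 := by cases m <;> rfl
      simp [hf, this]
    have hm : f (m + 1) = 0 := by simp [hf, iso_eq_zero q (Nat.lt_succ_self m)]
    have htel : ∑ k ∈ Finset.range (m + 1), (f (k + 1) - f k) = f (m + 1) - f 0 := Finset.sum_range_sub f (m + 1)
    have hrw : ∀ k : ℕ, -((-1 : ℤ) ^ k * (iso q m k : ℤ) * (q : ℤ) ^ ((m - k) ^ 2)) - f k + f (k + 1) =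
        -((-1 : ℤ) ^ k * (iso q m k : ℤ) * (q : ℤ) ^ ((m - k) ^ 2)) + (f (k + 1) - f k) := fun k => by ring
    rw [Finset.sum_range_succ', Finset.sum_congr rfl hexp, Finset.sum_congr rfl fun k _ => hrw k,
      Finset.sum_add_distrib, Finset.sum_neg_distrib, sum_iso_sq m, htel, h0, hm]
    simp only [iso, pow_zero, Nat.cast_one, one_mul, Nat.sub_zero, pow_succ]
    ring

end Cfsg.Agent.SpUnipotent1
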