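/-
Unipotent isometries of a symplectic space fixing an isotropic tuple.
-/
import Cfsg.Agent.SpUnipotent1.Poly

set_option autoImplicit false

namespace Cfsg.Agent.SpUnipotent1

open Module

universe u v

variable {F : Type u} [Field F] [Fintype F] {V : Type v} [AddCommGroup V] [Module F V] [Finite V]

/-- A non-degenerate alternating form. -/
structure Symp (B : V →ₗ[F] V →ₗ[F] F) : Prop where
  alt : ∀ u, B u u = 0
  nd : ∀ u, (∀ w, B u w = 0) → u = 0

/-- Unipotent isometries. -/
abbrev Uni (B : V →ₗ[F] V →ₗ[F] F) :=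
  {g : Module.End F V // (∀ u w, B (g u) (g w) = B u w) ∧ IsNilpotent (g - 1)}

/-- Independent isotropic tuples. -/
def IsIso (B : V →ₗ[F] V →ₗ[F] F) {k : ℕ} (t : Fin k → V) : Prop :=
  LinearIndependent F t ∧ ∀ i j, B (t i) (t j) = 0

/-- The unipotent isometries fixing a tuple. -/
abbrev UniFix (B : V →ₗ[F] V →ₗ[F] F) {k : ℕ} (t : Fin k → V) :=
  {g : Uni B // ∀ i, g.1 (t i) = t i}

variable {B : V →ₗ[F] V →ₗ[F] F}

theorem Symp.swap (h : Symp B) (u w : V) : B w u = -B u w := by
  have h1 := h.alt (u + w)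
  simp only [map_add, LinearMap.add_apply, h.alt, zero_add, add_zero] at h1
  linear_combination h1

theorem Symp.exists_pair (h : Symp B) {v : V} (hv : v ≠ 0) : ∃ w, B v w = 1 := by
  have : ¬ ∀ w, B v w = 0 := fun h0 => hv (h.nd v h0)
  push_neg at this
  obtain ⟨w, hw⟩ := this
  exact ⟨(B v w)⁻¹ • w, by rw [map_smul, smul_eq_mul, inv_mul_cancel₀ hw]⟩

/-- A hyperbolic pair. -/
structure Pair (B : V →ₗ[F] V →ₗ[F] F) where
  sym : Symp B
  v : V
  w : V
  pair : B v w = 1

namespace Pair

variable (P : Pair B)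

/-- The orthogonal complement of the pair. -/
def X : Submodule F V := LinearMap.ker (B.flip P.v) ⊓ LinearMap.ker (B.flip P.w)

omit [Fintype F] [Finite V] in
theorem mem_X {u : V} : u ∈ P.X ↔ B u P.v = 0 ∧ B u P.w = 0 := Iff.rfl

theorem wv : B P.w P.v = -1 := by rw [P.sym.swap P.v P.w, P.pair]

theorem vx (x : P.X) : B P.v x = 0 := by rw [P.sym.swap (x : V) P.v, (P.mem_X.mp x.2).1, neg_zero]
theorem wx (x : P.X) : B P.w x = 0 := by rw [P.sym.swap (x : V) P.w, (P.mem_X.mp x.2).2, neg_zero]
theorem xv (x : P.X) : B x P.v = 0 := (P.mem_X.mp x.2).1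
theorem xw (x : P.X) : B x P.w = 0 := (P.mem_X.mp x.2).2

/-- The form on the complement. -/
def res : P.X →ₗ[F] P.X →ₗ[F] F := B.compl₁₂ P.X.subtype P.X.subtype

theorem res_apply (x y : P.X) : P.res x y = B x y := rfl

/-- Coordinates: `u = a • v - b • w + x`. -/
def coord : V ≃ₗ[F] F × F × P.X where
  toFun u := (B u P.w, B u P.v, ⟨u - B u P.w • P.v + B u P.v • P.w, by
    simp [P.mem_X, P.pair, P.wv, P.sym.alt, map_add, map_sub, map_smul]⟩)
  invFun p := p.1 • P.v - p.2.1 • P.w + (p.2.2 : V)
  map_add' a b := Prod.ext (by simp) (Prod.ext (by simp) (Subtype.ext (by simp [add_smul]; abel)))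
  map_smul' c a := Prod.ext (by simp) (Prod.ext (by simp) (Subtype.ext (by simp [smul_add, smul_sub, mul_smul])))
  left_inv u := by simp only; abel
  right_inv p := by
    obtain ⟨a, b, x⟩ := p
    have e1 : B (a • P.v - b • P.w + (x : V)) P.w = a := by simp [P.pair, P.sym.alt, P.xw]
    have e2 : B (a • P.v - b • P.w + (x : V)) P.v = b := by simp [P.wv, P.sym.alt, P.xv]
    refine Prod.ext e1 (Prod.ext e2 (Subtype.ext ?_))
    simp only [e1, e2]
    abel

theorem decomp (u : V) : (P.coord u).1 • P.v - (P.coord u).2.1 • P.w + ((P.coord u).2.2 : V) = u :=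
  P.coord.symm_apply_apply u

theorem eval_pair (a b a' b' : F) (x x' : P.X) :
    B (a • P.v - b • P.w + (x : V)) (a' • P.v - b' • P.w + (x' : V)) = -(a * b') + b * a' + B x x' := by
  simp only [map_add, map_sub, map_smul, LinearMap.add_apply, LinearMap.sub_apply, LinearMap.smul_apply,
    P.pair, P.wv, P.sym.alt, P.vx, P.wx, P.xv, P.xw, smul_eq_mul]
  ring

theorem symp_res : Symp P.res where
  alt x := P.sym.alt x
  nd x hx := by
    refine Subtype.ext (P.sym.nd x fun u => ?_)
    rw [← P.decomp u]
    simp only [map_add, map_sub, map_smul, P.xv, P.xw, smul_zero, sub_zero, zero_add]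
    exact hx (P.coord u).2.2

theorem finrank_X : finrank F P.X + 2 = finrank F V := by
  rw [P.coord.finrank_eq, Module.finrank_prod, Module.finrank_prod, Module.finrank_self]
  omega

/-- The isometry fixing `v` with parameters `a`, `x₀`, `h`. -/
def lift (a : F) (x0 : P.X) (h : Module.End F P.X) : Module.End F V :=
  P.coord.symm.toLinearMap ∘ₗ
    (LinearMap.prod
      (LinearMap.fst F F (F × P.X) - a • (LinearMap.fst F F P.X ∘ₗ LinearMap.snd F F (F × P.X))
        + (B (x0 : V)) ∘ₗ P.X.subtype ∘ₗ h ∘ₗ LinearMap.snd F F P.X ∘ₗ LinearMap.snd F F (F × P.X))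
      (LinearMap.prod (LinearMap.fst F F P.X ∘ₗ LinearMap.snd F F (F × P.X))
        (h ∘ₗ LinearMap.snd F F P.X ∘ₗ LinearMap.snd F F (F × P.X)
          - (LinearMap.fst F F P.X ∘ₗ LinearMap.snd F F (F × P.X)).smulRight x0))) ∘ₗ P.coord.toLinearMap

theorem lift_apply (a : F) (x0 : P.X) (h : Module.End F P.X) (α β : F) (x : P.X) :
    P.lift a x0 h (α • P.v - β • P.w + (x : V)) =
      (α - a * β + B x0 (h x : V)) • P.v - β • P.w + ((h x - β • x0 : P.X) : V) := by
  have e : P.coord (α • P.v - β • P.w + (x : V)) = (α, β, x) := P.coord.apply_symm_apply (α, β, x)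
  simp only [lift, LinearMap.comp_apply, LinearEquiv.coe_coe, e]
  rfl

theorem lift_v (a : F) (x0 : P.X) (h : Module.End F P.X) : P.lift a x0 h P.v = P.v := by
  have := P.lift_apply a x0 h 1 0 0
  simpa using this

theorem lift_w (a : F) (x0 : P.X) (h : Module.End F P.X) : P.lift a x0 h P.w = a • P.v + P.w + (x0 : V) := by
  have := P.lift_apply a x0 h 0 (-1) 0
  simpa using this

theorem lift_x (a : F) (x0 : P.X) (h : Module.End F P.X) (x : P.X) :
    P.lift a x0 h x = B x0 (h x : V) • P.v + (h x : V) := by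
  have := P.lift_apply a x0 h 0 0 x
  simpa using this

theorem lift_isom (a : F) (x0 : P.X) (h : Module.End F P.X) (hh : ∀ x y, P.res (h x) (h y) = P.res x y) (u u' : V) :
    B (P.lift a x0 h u) (P.lift a x0 h u') = B u u' := by
  rw [← P.decomp u, ← P.decomp u', lift_apply, lift_apply, eval_pair, eval_pair]
  set x := (P.coord u).2.2
  set y := (P.coord u').2.2
  have h1 : B (h x : V) (h y : V) = B (x : V) (y : V) := hh x y
  have h2 := P.sym.swap (h x : V) (x0 : V)
  have h3 := P.sym.alt (x0 : V)
  simp only [Submodule.coe_sub, Submodule.coe_smul, map_sub, map_smul, LinearMap.sub_apply, LinearMap.smul_apply,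
    smul_eq_mul]
  linear_combination h1 + (-(P.coord u').2.1) * h2 + (P.coord u).2.1 * (P.coord u').2.1 * h3

theorem pow_lift_perp (a : F) (x0 : P.X) (h : Module.End F P.X) (n : ℕ) (α : F) (x : P.X) :
    ∃ γ : F, ((P.lift a x0 h - 1) ^ n) (α • P.v + (x : V)) = γ • P.v + (((h - 1) ^ n) x : V) := by
  induction n with
  | zero => exact ⟨α, by simp⟩
  | succ n ih =>
    obtain ⟨γ, hγ⟩ := ih
    refine ⟨B x0 (h (((h - 1) ^ n) x) : V), ?_⟩
    rw [pow_succ', pow_succ', Module.End.mul_apply, hγ, Module.End.mul_apply, map_add, map_smul]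
    simp only [LinearMap.sub_apply, Module.End.one_apply, P.lift_v, P.lift_x, sub_self, smul_zero, zero_add,
      Submodule.coe_sub]
    abel

theorem lift_nilpotent_iff (a : F) (x0 : P.X) (h : Module.End F P.X) :
    IsNilpotent (P.lift a x0 h - 1) ↔ IsNilpotent (h - 1) := by
  constructor
  · rintro ⟨N, hN⟩
    refine ⟨N, LinearMap.ext fun x => ?_⟩
    obtain ⟨γ, hγ⟩ := P.pow_lift_perp a x0 h N 0 x
    rw [hN, LinearMap.zero_apply] at hγ
    have := congrArg (fun u => (P.coord u).2.2) (hγ.trans (by simp : γ • P.v + (((h - 1) ^ N) x : V) =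
      γ • P.v - (0 : F) • P.w + (((h - 1) ^ N) x : V)))
    simp only [map_zero, Prod.snd_zero] at this
    rw [show P.coord (γ • P.v - (0 : F) • P.w + (((h - 1) ^ N) x : V)) = (γ, 0, ((h - 1) ^ N) x) from
      P.coord.apply_symm_apply (γ, 0, ((h - 1) ^ N) x)] at this
    simpa using this.symm
  · rintro ⟨N, hN⟩
    refine ⟨N + 2, LinearMap.ext fun u => ?_⟩
    rw [← P.decomp u]
    set α := (P.coord u).1
    set β := (P.coord u).2.1
    set x := (P.coord u).2.2
    have h1 : (P.lift a x0 h - 1) (α • P.v - β • P.w + (x : V)) =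
        (-(a * β) + B x0 (h x : V)) • P.v + ((h x - β • x0 - x : P.X) : V) := by
      rw [LinearMap.sub_apply, Module.End.one_apply, P.lift_apply]
      simp only [Submodule.coe_sub, add_smul, sub_smul, neg_smul]
      abel
    obtain ⟨γ, hγ⟩ := P.pow_lift_perp a x0 h N (-(a * β) + B x0 (h x : V)) (h x - β • x0 - x)
    rw [pow_succ, Module.End.mul_apply, h1, pow_succ', Module.End.mul_apply, hγ, hN, LinearMap.zero_apply,
      Submodule.coe_zero, add_zero, map_smul, LinearMap.sub_apply, Module.End.one_apply, P.lift_v, sub_self,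
      smul_zero, LinearMap.zero_apply]

/-- The part of `x₀` allowed when further vectors are fixed. -/
abbrev Ann {k : ℕ} (y : Fin k → P.X) := {x0 : P.X // ∀ i, P.res x0 (y i) = 0}

theorem fix_iff (g : Module.End F V) (hv : g P.v = P.v) (h : Module.End F P.X) (x0 : P.X)
    (hx : ∀ x : P.X, g x = B x0 (h x : V) • P.v + (h x : V)) (c : F) (x : P.X) :
    g (c • P.v + (x : V)) = c • P.v + (x : V) ↔ (h x = x ∧ P.res x0 x = 0) := by
  rw [map_add, map_smul, hv, hx, add_right_inj]
  constructor
  · intro e
    have := congrArg P.coord (show B x0 (h x : V) • P.v - (0 : F) • P.w + (h x : V) = (0 : F) • P.v - (0 : F) • P.w + (x : V) by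
      simpa using e)
    rw [show P.coord (B x0 (h x : V) • P.v - (0 : F) • P.w + (h x : V)) = (B x0 (h x : V), 0, h x) from
      P.coord.apply_symm_apply (_, 0, h x),
      show P.coord ((0 : F) • P.v - (0 : F) • P.w + (x : V)) = (0, 0, x) from P.coord.apply_symm_apply (0, 0, x)] at this
    obtain ⟨e1, e2⟩ := Prod.ext_iff.mp this
    have e3 : h x = x := (Prod.ext_iff.mp e2).2
    exact ⟨e3, by rw [P.res_apply]; rw [e3] at e1; exact e1⟩
  · rintro ⟨e1, e2⟩
    rw [e1, ← P.res_apply, e2, zero_smul, zero_add]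

/-- The unipotent isometries fixing `v` and `c_i v + y_i`. -/
noncomputable def fixEquiv {k : ℕ} (c : Fin k → F) (y : Fin k → P.X) :
    UniFix B (Fin.cons P.v (fun i => c i • P.v + (y i : V))) ≃ (F × P.Ann y) × UniFix P.res y := by
  let a : UniFix B (Fin.cons P.v (fun i => c i • P.v + (y i : V))) → F := fun g => (P.coord (g.1.1 P.w)).1
  let x0 : UniFix B (Fin.cons P.v (fun i => c i • P.v + (y i : V))) → P.X := fun g => (P.coord (g.1.1 P.w)).2.2
  let h : UniFix B (Fin.cons P.v (fun i => c i • P.v + (y i : V))) → Module.End F P.X := fun g =>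
    LinearMap.snd F F P.X ∘ₗ LinearMap.snd F F (F × P.X) ∘ₗ P.coord.toLinearMap ∘ₗ g.1.1 ∘ₗ P.X.subtype
  have hv : ∀ g : UniFix B (Fin.cons P.v (fun i => c i • P.v + (y i : V))), g.1.1 P.v = P.v := fun g => by
    simpa using g.2 0
  have hw : ∀ g, g.1.1 P.w = a g • P.v + P.w + (x0 g : V) := fun g => by
    have e : B (g.1.1 P.w) P.v = -1 := by
      have e0 := g.1.2.1 P.w P.v
      rwa [hv g, P.wv] at e0
    conv_lhs => rw [← P.decomp (g.1.1 P.w), show (P.coord (g.1.1 P.w)).2.1 = -1 from e, neg_smul, one_smul,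
      sub_neg_eq_add]
  have hxx : ∀ g, ∀ x : P.X, g.1.1 x = B (x0 g) (h g x : V) • P.v + (h g x : V) := fun g x => by
    have e : B (g.1.1 x) P.v = 0 := by
      have e0 := g.1.2.1 x P.v
      rwa [hv g, P.xv] at e0
    have e' : g.1.1 x = (P.coord (g.1.1 x)).1 • P.v + (h g x : V) := by
      conv_lhs => rw [← P.decomp (g.1.1 x), show (P.coord (g.1.1 x)).2.1 = 0 from e, zero_smul, sub_zero]
      rfl
    have e2 : B (g.1.1 x) (g.1.1 P.w) = 0 := by rw [g.1.2.1, P.xw]
    set α := (P.coord (g.1.1 x)).1
    rw [e', hw g] at e2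
    simp only [map_add, map_smul, LinearMap.add_apply, LinearMap.smul_apply, P.sym.alt, P.pair, P.vx, P.xv, P.xw,
      smul_eq_mul, mul_zero, mul_one, add_zero, zero_add] at e2
    rw [e', show B (x0 g) (h g x : V) = α by rw [P.sym.swap (h g x : V) (x0 g : V)]; linear_combination e2.symm]
  have heq : ∀ g, P.lift (a g) (x0 g) (h g) = g.1.1 := fun g => by
    refine LinearMap.ext fun u => ?_
    rw [← P.decomp u, P.lift_apply, map_add, map_sub, map_smul, map_smul, hv g, hw g, hxx g]
    simp only [Submodule.coe_sub, Submodule.coe_smul, add_smul, sub_smul, smul_add, mul_smul]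
    rw [smul_comm (a g)]
    abel
  have hres : ∀ g, ∀ x x' : P.X, P.res (h g x) (h g x') = P.res x x' := fun g x x' => by
    have e := g.1.2.1 x x'
    rw [hxx g x, hxx g x'] at e
    simp only [map_add, map_smul, LinearMap.add_apply, LinearMap.smul_apply, P.sym.alt, P.vx, P.xv,
      smul_eq_mul, mul_zero, add_zero, zero_add] at e
    exact e
  have hfix : ∀ g, ∀ i, h g (y i) = y i ∧ P.res (x0 g) (y i) = 0 := fun g i =>
    (P.fix_iff g.1.1 (hv g) (h g) (x0 g) (hxx g) (c i) (y i)).mp (by simpa using g.2 i.succ)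
  exact
    { toFun := fun g => ((a g, ⟨x0 g, fun i => (hfix g i).2⟩),
        ⟨⟨h g, hres g, (P.lift_nilpotent_iff (a g) (x0 g) (h g)).mp ((heq g).symm ▸ g.1.2.2)⟩, fun i => (hfix g i).1⟩)
      invFun := fun p => ⟨⟨P.lift p.1.1 p.1.2.1 p.2.1.1, P.lift_isom _ _ _ p.2.1.2.1, (P.lift_nilpotent_iff _ _ _).mpr p.2.1.2.2⟩,
        Fin.cases (by simpa using P.lift_v _ _ _) fun i => by
          simpa using (P.fix_iff _ (P.lift_v _ _ _) p.2.1.1 p.1.2.1 (P.lift_x _ _ _) (c i) (y i)).mpr ⟨p.2.2 i, p.1.2.2 i⟩⟩
      left_inv := fun g => Subtype.ext (Subtype.ext (heq g))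
      right_inv := fun p => by
        obtain ⟨⟨b, ⟨z, hz⟩⟩, ⟨⟨k', hk1, hk2⟩, hk3⟩⟩ := p
        have e1 : P.coord (P.lift b z k' P.w) = (b, -1, z) := by
          rw [P.lift_w]
          have := P.coord.apply_symm_apply ((b, -1, z) : F × F × P.X)
          simpa [coord] using this
        refine Prod.ext (Prod.ext ?_ (Subtype.ext ?_)) (Subtype.ext (Subtype.ext (LinearMap.ext fun x => ?_)))
        · show (P.coord (P.lift b z k' P.w)).1 = b
          rw [e1]
        · show (P.coord (P.lift b z k' P.w)).2.2 = z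
          rw [e1]
        · show (P.coord (P.lift b z k' x)).2.2 = k' x
          rw [P.lift_x, show P.coord (B z (k' x : V) • P.v + (k' x : V)) = (B z (k' x : V), 0, k' x) by
            have := P.coord.apply_symm_apply ((B z (k' x : V), 0, k' x) : F × F × P.X)
            simpa [coord] using this] }

theorem card_ann {k : ℕ} (y : Fin k → P.X) (hy : LinearIndependent F y) :
    Nat.card (P.Ann y) = Fintype.card F ^ (finrank F P.X - k) ∧ k ≤ finrank F P.X := by
  let Φ : P.X →ₗ[F] Fin k → F := LinearMap.pi fun i => P.res.flip (y i)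
  have hinj : Function.Injective (P.res : P.X →ₗ[F] Module.Dual F P.X) := by
    rw [injective_iff_map_eq_zero]
    exact fun x hx => P.symp_res.nd x fun z => by rw [hx]; rfl
  have hbij : Function.Surjective (P.res : P.X →ₗ[F] Module.Dual F P.X) :=
    (LinearMap.injective_iff_surjective_of_finrank_eq_finrank (Subspace.dual_finrank_eq (K := F) (V := P.X)).symm).mp hinj
  have hsurj : Function.Surjective Φ := by
    intro f
    obtain ⟨φ, hφ⟩ := LinearMap.dualMap_surjective_of_injective
      (f := Fintype.linearCombination F y) hy.fintypeLinearCombination_injective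
      (Fintype.linearCombination F f)
    obtain ⟨x, rfl⟩ := hbij φ
    refine ⟨x, funext fun i => ?_⟩
    have := congrArg (fun ψ => ψ (Pi.single i 1)) hφ
    simpa [Φ, LinearMap.dualMap_apply, Fintype.linearCombination_apply, Pi.single_apply] using this
  have hk := LinearMap.finrank_range_add_finrank_ker Φ
  rw [LinearMap.range_eq_top.mpr hsurj, finrank_top, Module.finrank_fintype_fun_eq_card, Fintype.card_fin] at hk
  refine ⟨?_, by omega⟩
  have e : Nat.card (P.Ann y) = Nat.card (LinearMap.ker Φ) :=
    Nat.card_congr (Equiv.subtypeEquivRight fun x => by simp [Φ, funext_iff])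
  rw [e, Module.natCard_eq_pow_finrank (K := F), Nat.card_eq_fintype_card]
  congr 1
  omega

end Pair

/-- The first vector of an isotropic tuple splits off. -/
theorem IsIso.split (h : Symp B) {k : ℕ} {t : Fin (k + 1) → V} (ht : IsIso B t) :
    ∃ (P : Pair B) (c : Fin k → F) (y : Fin k → P.X), P.v = t 0 ∧ IsIso P.res y ∧
      t = Fin.cons P.v (fun i => c i • P.v + (y i : V)) := by
  obtain ⟨w, hw⟩ := h.exists_pair (ht.1.ne_zero 0)
  let P : Pair B := ⟨h, t 0, w, hw⟩
  refine ⟨P, fun i => B (t i.succ) w, fun i => (P.coord (t i.succ)).2.2, rfl, ?_, ?_⟩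
  · have ey : ∀ i : Fin k, t i.succ = B (t i.succ) w • t 0 + ((P.coord (t i.succ)).2.2 : V) := fun i => by
      conv_lhs => rw [← P.decomp (t i.succ), show (P.coord (t i.succ)).2.1 = 0 from ht.2 i.succ 0, zero_smul, sub_zero]
      rfl
    constructor
    · rw [Fintype.linearIndependent_iff]
      intro g hg
      have hg' : ∑ i, g i • ((P.coord (t i.succ)).2.2 : V) = 0 := by
        simpa using congrArg (Subtype.val : P.X → V) hg
      have := (Fintype.linearIndependent_iff.mp ht.1) (Fin.cons (-∑ i, g i * B (t i.succ) w) g) (by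
        rw [Fin.sum_univ_succ]
        simp only [Fin.cons_zero, Fin.cons_succ, neg_smul, Finset.sum_smul]
        rw [← Finset.sum_neg_distrib, ← Finset.sum_add_distrib]
        refine Eq.trans (Finset.sum_congr rfl fun i _ => ?_) hg'
        rw [show g i • t i.succ = _ from congrArg (g i • ·) (ey i), smul_add, ← mul_smul]
        abel)
      exact fun i => by simpa using this i.succ
    · intro i j
      have := ht.2 i.succ j.succ
      rw [ey i, ey j] at this
      simp only [map_add, map_smul, LinearMap.add_apply, LinearMap.smul_apply, h.alt, P.vx, P.xv, smul_eq_mul,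
        mul_zero, add_zero, zero_add, show B (t 0) (t 0) = 0 from h.alt _] at this
      have e1 : B (t 0) ((P.coord (t j.succ)).2.2 : V) = 0 := P.vx _
      have e2 : B ((P.coord (t i.succ)).2.2 : V) (t 0) = 0 := P.xv _
      simp only [e1, e2, mul_zero, add_zero, zero_add] at this
      exact this
  · refine funext (Fin.cases rfl fun i => ?_)
    rw [Fin.cons_succ]
    conv_lhs => rw [← P.decomp (t i.succ), show (P.coord (t i.succ)).2.1 = 0 from ht.2 i.succ 0, zero_smul, sub_zero]
    rfl

/-- Independent isotropic tuples beginning with a given vector. -/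
theorem IsIso.cons (P : Pair B) {k : ℕ} (c : Fin k → F) {y : Fin k → P.X} (hy : IsIso P.res y) :
    IsIso B (Fin.cons P.v (fun i => c i • P.v + (y i : V)) : Fin (k + 1) → V) := by
  refine ⟨Fintype.linearIndependent_iff.mpr fun g hg => ?_, ?_⟩
  · rw [Fin.sum_univ_succ] at hg
    simp only [Fin.cons_zero, Fin.cons_succ, smul_add, Finset.sum_add_distrib, ← mul_smul, ← Finset.sum_smul,
      ← add_assoc, ← add_smul] at hg
    have e := congrArg P.coord (show (g 0 + ∑ i : Fin k, g i.succ * c i) • P.v - (0 : F) • P.w +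
        ((∑ i : Fin k, g i.succ • y i : P.X) : V) = 0 by simpa using hg)
    rw [map_zero, show P.coord ((g 0 + ∑ i : Fin k, g i.succ * c i) • P.v - (0 : F) • P.w +
      ((∑ i : Fin k, g i.succ • y i : P.X) : V)) = (_, 0, _) from P.coord.apply_symm_apply (_, 0, _)] at e
    obtain ⟨e1, e2⟩ := Prod.ext_iff.mp e
    have hs := (Fintype.linearIndependent_iff.mp hy.1) (fun i => g i.succ) (Prod.ext_iff.mp e2).2
    refine Fin.cases ?_ hs
    simpa [hs] using e1
  · have hyy : ∀ i j, B (y i : V) (y j : V) = 0 := hy.2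
    refine Fin.cases (Fin.cases ?_ fun j => ?_) fun i => Fin.cases ?_ fun j => ?_ <;>
      simp [P.sym.alt, P.vx, P.xv, hyy]

/-- If all spaces of dimension `2j` have `val` unipotent isometries, the number fixing an isotropic tuple. -/
theorem card_uniFix (j val : ℕ) (hval : ∀ (W : Type v) [AddCommGroup W] [Module F W] [Finite W]
      (C : W →ₗ[F] W →ₗ[F] F), Symp C → finrank F W = 2 * j → Nat.card (Uni C) = val) :
    ∀ (k : ℕ) {V : Type v} [AddCommGroup V] [Module F V] [Finite V] (B : V →ₗ[F] V →ₗ[F] F), Symp B →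
      finrank F V = 2 * (k + j) → ∀ t : Fin k → V, IsIso B t →
      Nat.card (UniFix B t) = Fintype.card F ^ expo (k + j) k * val := by
  intro k
  induction k with
  | zero =>
    intro V _ _ _ B hB hd t _
    rw [Nat.card_congr (Equiv.subtypeUnivEquiv fun g i => Fin.elim0 i), hval V B hB (by omega), expo,
      pow_zero, one_mul]
  | succ k ih =>
    intro V _ _ _ B hB hd t ht
    obtain ⟨P, c, y, _, hy, rfl⟩ := ht.split hB
    have hX : finrank F P.X = 2 * (k + j) := by have := P.finrank_X; omega
    rw [Nat.card_congr (P.fixEquiv c y), Nat.card_prod, Nat.card_prod, ih P.res P.symp_res hX y hy,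
      (P.card_ann y hy.1).1, hX, Nat.card_eq_fintype_card (α := F), ← mul_assoc, ← pow_succ', ← pow_add]
    congr 2
    rw [show k + 1 + j = (k + j) + 1 by omega, expo]
    have := (P.card_ann y hy.1).2
    omega

/-- The number of isotropic independent tuples. -/
theorem card_tuples : ∀ (k m : ℕ) {V : Type v} [AddCommGroup V] [Module F V] [Finite V]
    (B : V →ₗ[F] V →ₗ[F] F), Symp B → finrank F V = 2 * m →
    Nat.card {t : Fin k → V // IsIso B t} = tup (Fintype.card F) m k := by
  intro k
  induction k with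
  | zero =>
    intro m V _ _ _ B _ _
    haveI : Unique {t : Fin 0 → V // IsIso B t} :=
      { default := ⟨Fin.elim0, linearIndependent_empty_type, fun i => Fin.elim0 i⟩
        uniq := fun t => Subtype.ext (Subsingleton.elim _ _) }
    cases m <;> simp [tup]
  | succ k ih =>
    intro m V _ _ _ B hB hd
    rcases m with _ | m
    · haveI : IsEmpty {t : Fin (k + 1) → V // IsIso B t} := ⟨fun t => by
        have := t.2.1.fintype_card_le_finrank
        rw [hd, Fintype.card_fin] at this
        omega⟩
      simp [tup]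
    · classical
      have key : ∀ v : {v : V // v ≠ 0}, Nat.card {t : {t : Fin (k + 1) → V // IsIso B t} // t.1 0 = v.1} =
          Fintype.card F ^ k * tup (Fintype.card F) m k := by
        intro v
        obtain ⟨w, hw⟩ := hB.exists_pair v.2
        let P : Pair B := ⟨hB, v.1, w, hw⟩
        rw [← ih m P.res P.symp_res (by have := P.finrank_X; omega),
          show Fintype.card F ^ k = Nat.card (Fin k → F) by simp, ← Nat.card_prod]
        refine (Nat.card_eq_of_bijective (fun p : (Fin k → F) × {y : Fin k → P.X // IsIso P.res y} =>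
          (⟨⟨_, p.2.2.cons P p.1⟩, rfl⟩ : {t : {t : Fin (k + 1) → V // IsIso B t} // t.1 0 = v.1})) ⟨?_, ?_⟩).symm
        · intro p p' he
          have e : ∀ i : Fin k, p.1 i • P.v + (p.2.1 i : V) = p'.1 i • P.v + (p'.2.1 i : V) := fun i => by
            simpa using congrFun (congrArg (fun t => t.1.1) he) i.succ
          have e' : ∀ i : Fin k, P.coord (p.1 i • P.v + (p.2.1 i : V)) = (p.1 i, 0, p.2.1 i) ∧
              P.coord (p'.1 i • P.v + (p'.2.1 i : V)) = (p'.1 i, 0, p'.2.1 i) := fun i => by
            have h1 := P.coord.apply_symm_apply ((p.1 i, 0, p.2.1 i) : F × F × P.X)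
            have h2 := P.coord.apply_symm_apply ((p'.1 i, 0, p'.2.1 i) : F × F × P.X)
            exact ⟨by simpa [Pair.coord] using h1, by simpa [Pair.coord] using h2⟩
          refine Prod.ext (funext fun i => ?_) (Subtype.ext (funext fun i => ?_))
          · have := (e' i).1; rw [e i, (e' i).2] at this; exact (Prod.ext_iff.mp this).1.symm
          · have := (e' i).1; rw [e i, (e' i).2] at this
            exact (Prod.ext_iff.mp (Prod.ext_iff.mp this).2).2.symm
        · rintro ⟨⟨t, ht⟩, h0⟩
          simp only at h0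
          have hperp : ∀ i : Fin k, B (t i.succ) P.v = 0 := fun i => by
            show B (t i.succ) v.1 = 0
            rw [← h0]; exact ht.2 _ _
          have ey : ∀ i : Fin k, t i.succ = (P.coord (t i.succ)).1 • P.v + ((P.coord (t i.succ)).2.2 : V) := fun i => by
            conv_lhs => rw [← P.decomp (t i.succ), show (P.coord (t i.succ)).2.1 = 0 from hperp i, zero_smul, sub_zero]
          have hy : IsIso P.res (fun i => (P.coord (t i.succ)).2.2) := by
            refine ⟨Fintype.linearIndependent_iff.mpr fun g hg => ?_, fun i j => ?_⟩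
            · have hg' : ∑ i, g i • ((P.coord (t i.succ)).2.2 : V) = 0 := by
                simpa using congrArg (Subtype.val : P.X → V) hg
              have := (Fintype.linearIndependent_iff.mp ht.1) (Fin.cons (-∑ i, g i * (P.coord (t i.succ)).1) g) (by
                rw [Fin.sum_univ_succ, h0]
                simp only [Fin.cons_zero, Fin.cons_succ, neg_smul, Finset.sum_smul]
                rw [← Finset.sum_neg_distrib, ← Finset.sum_add_distrib]
                refine Eq.trans (Finset.sum_congr rfl fun i _ => ?_) hg'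
                rw [show g i • t i.succ = _ from congrArg (g i • ·) (ey i), smul_add, ← mul_smul]
                abel)
              exact fun i => by simpa using this i.succ
            · have := ht.2 i.succ j.succ
              rw [ey i, ey j] at this
              simp only [map_add, map_smul, LinearMap.add_apply, LinearMap.smul_apply, hB.alt, P.vx, P.xv,
                smul_eq_mul, mul_zero, add_zero, zero_add] at this
              exact this
          refine ⟨(fun i => (P.coord (t i.succ)).1, ⟨_, hy⟩), Subtype.ext (Subtype.ext ?_)⟩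
          refine funext (Fin.cases h0.symm fun i => ?_)
          simpa using (ey i).symm
      have hz : Nat.card {v : V // v ≠ 0} = Fintype.card F ^ (2 * (m + 1)) - 1 := by
        haveI : Fintype V := Fintype.ofFinite V
        rw [Nat.card_eq_fintype_card, Fintype.card_subtype_compl, Fintype.card_subtype_eq,
          Module.card_eq_pow_finrank (K := F) (V := V), hd]
      rw [← Nat.card_congr (Equiv.sigmaFiberEquiv
        (fun t : {t : Fin (k + 1) → V // IsIso B t} => (⟨t.1 0, t.2.1.ne_zero 0⟩ : {v : V // v ≠ 0})))]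
      haveI : Fintype {v : V // v ≠ 0} := Fintype.ofFinite _
      rw [Nat.card_sigma]
      rw [Finset.sum_congr rfl fun v _ => (Nat.card_congr (Equiv.subtypeEquivRight fun t => Subtype.ext_iff)).trans (key v),
        Finset.sum_const, smul_eq_mul, Finset.card_univ, ← Nat.card_eq_fintype_card, hz, tup]
      ring

end Cfsg.Agent.SpUnipotent1
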