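/-
The number of unipotent isometries of a symplectic space.
-/
import Cfsg.Agent.SpUnipotent1.Space

set_option autoImplicit false

namespace Cfsg.Agent.SpUnipotent1

open Module Submodule

universe u v

variable {F : Type u} [Field F] [Fintype F] {V : Type v} [AddCommGroup V] [Module F V] [Finite V]
  {B : V →ₗ[F] V →ₗ[F] F}

/-- A totally isotropic subspace. -/
def TIso (B : V →ₗ[F] V →ₗ[F] F) (W : Submodule F V) : Prop := ∀ a ∈ W, ∀ b ∈ W, B a b = 0

/-- The Möbius weight of a subspace of dimension `k`. -/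
def mob (q k : ℕ) : ℤ := (-1) ^ k * (q : ℤ) ^ tri k

omit [Finite V] in
theorem card_bases [Finite V] (W : Submodule F V) {k : ℕ} (hk : finrank F W = k) :
    Nat.card {s : Fin k → W // LinearIndependent F s} = bas (Fintype.card F) k := by
  haveI : Fintype W := Fintype.ofFinite W
  rw [card_linearIndependent hk.ge, bas_eq _ Fintype.card_pos, hk]

theorem card_tiso (hB : Symp B) {m : ℕ} (hd : finrank F V = 2 * m) (k : ℕ) :
    Nat.card {W : Submodule F V // finrank F W = k ∧ TIso B W} = iso (Fintype.card F) m k := by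
  classical
  haveI : Finite (Submodule F V) := Finite.of_injective _ SetLike.coe_injective
  haveI : Fintype {W : Submodule F V // finrank F W = k ∧ TIso B W} := Fintype.ofFinite _
  refine Nat.eq_of_mul_eq_mul_right (bas_pos (Fintype.card F) (Fintype.one_lt_card (α := F)) k) ?_
  rw [iso_mul_bas _ (Fintype.card_pos (α := F)), ← card_tuples k m B hB hd]
  have hspan : ∀ t : {t : Fin k → V // IsIso B t}, finrank F (span F (Set.range t.1)) = k ∧
      TIso B (span F (Set.range t.1)) := fun t => by
    refine ⟨by rw [finrank_span_eq_card t.2.1, Fintype.card_fin], fun a ha b hb => ?_⟩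
    obtain ⟨c, rfl⟩ := (mem_span_range_iff_exists_fun F).mp ha
    obtain ⟨d, rfl⟩ := (mem_span_range_iff_exists_fun F).mp hb
    simp [map_sum, t.2.2]
  rw [← Nat.card_congr (Equiv.sigmaFiberEquiv (fun t : {t : Fin k → V // IsIso B t} =>
    (⟨span F (Set.range t.1), hspan t⟩ : {W : Submodule F V // finrank F W = k ∧ TIso B W}))), Nat.card_sigma]
  rw [Finset.sum_congr rfl (g := fun _ => bas (Fintype.card F) k) fun W _ => ?_, Finset.sum_const, smul_eq_mul,
    Finset.card_univ, ← Nat.card_eq_fintype_card (α := {W : Submodule F V // finrank F W = k ∧ TIso B W})]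
  rw [← card_bases W.1 W.2.1]
  refine Nat.card_congr
    { toFun := fun t => ⟨fun i => ⟨t.1.1 i, congrArg Subtype.val t.2 ▸ subset_span ⟨i, rfl⟩⟩, LinearIndependent.of_comp W.1.subtype t.1.2.1⟩
      invFun := fun s => ⟨⟨fun i => s.1 i, s.2.map' W.1.subtype (ker_subtype _), fun i j => W.2.2 _ (s.1 i).2 _ (s.1 j).2⟩,
        Subtype.ext ?_⟩
      left_inv := fun t => rfl
      right_inv := fun s => rfl }
  apply Submodule.eq_of_le_of_finrank_eq
  · exact span_le.mpr (by rintro _ ⟨i, rfl⟩; exact (s.1 i).2)
  · show finrank F (span F (Set.range (W.1.subtype ∘ s.1))) = finrank F W.1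
    rw [finrank_span_eq_card (s.2.map' W.1.subtype (ker_subtype _)), Fintype.card_fin, W.2.1]

open scoped Classical in
/-- Summing a function of the dimension over isotropic subspaces. -/
theorem sum_tiso [Fintype (Submodule F V)] (hB : Symp B) {m : ℕ} (hd : finrank F V = 2 * m) (f : ℕ → ℤ) :
    ∑ W ∈ Finset.univ.filter (TIso B), f (finrank F (W : Submodule F V)) =
      ∑ k ∈ Finset.range (m + 1), (iso (Fintype.card F) m k : ℤ) * f k := by
  have hle : ∀ W ∈ Finset.univ.filter (TIso B), finrank F (W : Submodule F V) ∈ Finset.range (m + 1) := by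
    intro W hW
    simp only [Finset.mem_filter, Finset.mem_univ, true_and] at hW
    rw [Finset.mem_range]
    by_contra hlt
    have h0 := card_tiso hB hd (finrank F W)
    rw [iso_eq_zero _ (by omega), Nat.card_eq_zero] at h0
    rcases h0 with h0 | h0
    · exact h0.elim ⟨W, rfl, hW⟩
    · haveI : Finite (Submodule F V) := Finite.of_fintype _
      exact h0.not_finite inferInstance
  rw [← Finset.sum_fiberwise_of_maps_to hle]
  refine Finset.sum_congr rfl fun k _ => ?_
  rw [Finset.sum_congr rfl (g := fun _ => f k) fun W hW => by rw [(Finset.mem_filter.mp hW).2],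
    Finset.sum_const, nsmul_eq_mul, ← card_tiso hB hd k, Nat.card_eq_fintype_card, Fintype.card_subtype,
    Finset.filter_filter]
  congr 3
  ext W
  simp [and_comm]

open scoped Classical in
/-- The weights of the isotropic subspaces of a degenerate subspace cancel. -/
theorem sum_mob_eq_zero [Fintype (Submodule F V)] {U : Submodule F V} {l : V} (hl : l ∈ U) (hl0 : l ≠ 0)
    (hrad : ∀ u ∈ U, B l u = 0) (hB : Symp B) :
    ∑ W ∈ Finset.univ.filter (fun W => TIso B W ∧ W ≤ U), mob (Fintype.card F) (finrank F (W : Submodule F V)) = 0 := by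
  set q := Fintype.card F with hq
  rw [← Finset.sum_fiberwise_of_maps_to (t := Finset.univ.filter (fun W => TIso B W ∧ W ≤ U ∧ l ∈ W))
    (g := fun W : Submodule F V => W ⊔ span F {l}) (fun W hW => by
      simp only [Finset.mem_filter, Finset.mem_univ, true_and] at hW ⊢
      refine ⟨fun a ha b hb => ?_, sup_le hW.2 ((span_singleton_le_iff_mem _ _).mpr hl),
        mem_sup_right (mem_span_singleton_self l)⟩
      obtain ⟨a1, ha1, a2, ha2, rfl⟩ := mem_sup.mp ha
      obtain ⟨b1, hb1, b2, hb2, rfl⟩ := mem_sup.mp hb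
      obtain ⟨c, rfl⟩ := mem_span_singleton.mp ha2
      obtain ⟨d, rfl⟩ := mem_span_singleton.mp hb2
      simp [hW.1 a1 ha1 b1 hb1, hrad b1 (hW.2 hb1), hB.alt, hB.swap l a1, hrad a1 (hW.2 ha1)])]
  refine Finset.sum_eq_zero fun W' hW' => ?_
  simp only [Finset.mem_filter, Finset.mem_univ, true_and] at hW'
  obtain ⟨hWi, hWU, hlW⟩ := hW'
  obtain ⟨k, hk⟩ : ∃ k, finrank F W' = k + 1 := ⟨finrank F W' - 1, by
    have : W' ≠ ⊥ := fun h => hl0 (by rw [h] at hlW; exact (mem_bot F).mp hlW)
    have := Submodule.one_le_finrank_iff.mpr this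
    omega⟩
  set Hs := Finset.univ.filter (fun H : Submodule F V => H ⊔ span F {l} = W' ∧ l ∉ H) with hHs
  have hfib : (Finset.univ.filter (fun W => TIso B W ∧ W ≤ U)).filter (fun W => W ⊔ span F {l} = W') = insert W' Hs := by
    ext H
    simp only [Finset.mem_filter, Finset.mem_univ, true_and, Finset.mem_insert, hHs]
    constructor
    · rintro ⟨_, h2⟩
      by_cases hlH : l ∈ H
      · left; rw [← h2]; exact (sup_eq_left.mpr ((span_singleton_le_iff_mem _ _).mpr hlH)).symm
      · exact Or.inr ⟨h2, hlH⟩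
    · rintro (rfl | ⟨h1, _⟩)
      · exact ⟨⟨hWi, hWU⟩, sup_eq_left.mpr ((span_singleton_le_iff_mem _ _).mpr hlW)⟩
      · have hle : H ≤ W' := h1 ▸ le_sup_left
        exact ⟨⟨fun a ha b hb => hWi a (hle ha) b (hle hb), hle.trans hWU⟩, h1⟩
  have hHdim : ∀ H ∈ Hs, finrank F (H : Submodule F V) = k := by
    intro H hH
    simp only [hHs, Finset.mem_filter, Finset.mem_univ, true_and] at hH
    have h := Submodule.finrank_sup_add_finrank_inf_eq H (span F {l})
    rw [hH.1, hk, finrank_span_singleton hl0, (disjoint_span_singleton.mpr fun h => absurd h hH.2).eq_bot,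
      finrank_bot] at h
    omega
  have hcard : Hs.card = q ^ k := by
    let L : W' := ⟨l, hlW⟩
    have hL0 : L ≠ 0 := fun h => hl0 (congrArg Subtype.val h)
    obtain ⟨ψ0, hψ⟩ : ∃ φ : Module.Dual F W', φ L = 1 := by
      obtain ⟨f, hf, -⟩ := Submodule.exists_dual_map_eq_bot_of_notMem (p := (⊥ : Submodule F W')) (x := L)
        (by simpa using hL0) inferInstance
      exact ⟨(f L)⁻¹ • f, by simp [inv_mul_cancel₀ hf]⟩
    let A := {φ : Module.Dual F W' // φ L = 1}
    let K := LinearMap.ker (Module.Dual.eval F W' L)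
    have hA : Nat.card A = q ^ k := by
      have e : A ≃ K :=
        { toFun := fun φ => ⟨φ.1 - ψ0, by simp [K, φ.2, hψ]⟩
          invFun := fun φ => ⟨φ.1 + ψ0, by
            have h0 : φ.1 L = 0 := LinearMap.mem_ker.mp φ.2
            simp [h0, hψ]⟩
          left_inv := fun φ => Subtype.ext (sub_add_cancel _ _)
          right_inv := fun φ => Subtype.ext (add_sub_cancel_right _ _) }
      rw [Nat.card_congr e, Module.natCard_eq_pow_finrank (K := F), Nat.card_eq_fintype_card]
      congr 1
      have hs : Function.Surjective (Module.Dual.eval F W' L) := fun c => ⟨c • ψ0, by simp [hψ]⟩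
      have := LinearMap.finrank_range_add_finrank_ker (Module.Dual.eval F W' L)
      rw [LinearMap.range_eq_top.mpr hs, finrank_top, Module.finrank_self, Subspace.dual_finrank_eq, hk] at this
      simp only [K]
      omega
    have hmem : ∀ φ : A, (LinearMap.ker φ.1).map W'.subtype ∈ Hs := by
      intro φ
      simp only [hHs, Finset.mem_filter, Finset.mem_univ, true_and]
      refine ⟨le_antisymm (sup_le (map_subtype_le _ _) ((span_singleton_le_iff_mem _ _).mpr hlW)) fun x hx => ?_, ?_⟩
      · have hk' : (⟨x, hx⟩ - φ.1 ⟨x, hx⟩ • L : W') ∈ LinearMap.ker φ.1 := by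
          rw [LinearMap.mem_ker, map_sub, map_smul, φ.2, smul_eq_mul, mul_one, sub_self]
        exact mem_sup.mpr ⟨_, mem_map_of_mem (f := W'.subtype) hk',
          φ.1 ⟨x, hx⟩ • l, smul_mem _ _ (mem_span_singleton_self l), by simp [L]⟩
      · rintro ⟨y, hy, hyl⟩
        have : y = L := Subtype.ext hyl
        subst this
        have hy' : φ.1 L = 0 := hy
        rw [φ.2] at hy'
        exact one_ne_zero hy'
    rw [← hA, ← Fintype.card_coe, ← Nat.card_eq_fintype_card]
    refine (Nat.card_eq_of_bijective (fun φ : A => (⟨_, hmem φ⟩ : Hs)) ⟨fun φ φ' he => ?_, ?_⟩).symm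
    · have hker : LinearMap.ker φ.1 = LinearMap.ker φ'.1 :=
        Submodule.map_injective_of_injective W'.injective_subtype (congrArg Subtype.val he)
      refine Subtype.ext (LinearMap.ext fun u => ?_)
      have : u - φ.1 u • L ∈ LinearMap.ker φ'.1 := hker ▸ (by simp [φ.2])
      simp [φ'.2, sub_eq_zero] at this
      exact this.symm
    · rintro ⟨H, hH⟩
      have hH' := hH
      simp only [hHs, Finset.mem_filter, Finset.mem_univ, true_and] at hH'
      obtain ⟨f, hf, hf0⟩ := Submodule.exists_dual_map_eq_bot_of_notMem (p := H.comap W'.subtype) (x := L)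
        hH'.2 inferInstance
      refine ⟨⟨(f L)⁻¹ • f, by simp [inv_mul_cancel₀ hf]⟩, Subtype.ext (Eq.symm ?_)⟩
      refine Submodule.eq_of_le_of_finrank_eq (fun x hx => ?_) ?_
      · have hxW : x ∈ W' := hH'.1 ▸ mem_sup_left hx
        refine ⟨⟨x, hxW⟩, ?_, rfl⟩
        have : f ⟨x, hxW⟩ ∈ (H.comap W'.subtype).map f := mem_map_of_mem (show (⟨x, hxW⟩ : W') ∈ H.comap W'.subtype from hx)
        rw [hf0, mem_bot] at this
        simp [this]
      · rw [hHdim H hH, hHdim _ (hmem ⟨(f L)⁻¹ • f, by simp [inv_mul_cancel₀ hf]⟩)]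
  rw [hfib, Finset.sum_insert (by simp [hHs, hlW]), Finset.sum_congr rfl fun H hH => by rw [hHdim H hH],
    Finset.sum_const, hcard, hk, nsmul_eq_mul]
  simp only [mob, tri, pow_succ, pow_add, Nat.cast_pow]
  ring

/-- A unipotent isometry other than `1` has degenerate fixed space. -/
theorem exists_radical (g : Uni B) (hg : g.1 ≠ 1) :
    ∃ l, l ≠ 0 ∧ g.1 l = l ∧ ∀ u, g.1 u = u → B l u = 0 := by
  set N := g.1 - 1 with hN
  have hN0 : N ≠ 0 := sub_ne_zero.mpr hg
  obtain ⟨j, hj⟩ : ∃ j, N ^ (j + 1) ≠ 0 ∧ N ^ (j + 2) = 0 := by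
    classical
    have hex : ∃ n, N ^ n = 0 := g.2.2
    have h2 : 2 ≤ Nat.find hex := by
      by_contra hlt
      have h := Nat.find_spec hex
      interval_cases hn : Nat.find hex
      · rw [pow_zero] at h; exact hN0 (by rw [← mul_one N, h, mul_zero])
      · rw [pow_one] at h; exact hN0 h
    refine ⟨Nat.find hex - 2, Nat.find_min hex (by omega), ?_⟩
    rw [show Nat.find hex - 2 + 2 = Nat.find hex by omega]
    exact Nat.find_spec hex
  obtain ⟨w, hw⟩ : ∃ w, (N ^ (j + 1)) w ≠ 0 := by
    by_contra h
    push_neg at h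
    exact hj.1 (LinearMap.ext h)
  refine ⟨(N ^ (j + 1)) w, hw, ?_, fun u hu => ?_⟩
  · have h0 : N ((N ^ (j + 1)) w) = 0 := by
      rw [← Module.End.mul_apply, ← pow_succ', hj.2, LinearMap.zero_apply]
    rwa [hN, LinearMap.sub_apply, Module.End.one_apply, sub_eq_zero] at h0
  · have h0 := g.2.1 ((N ^ j) w) u
    rw [hu] at h0
    rw [pow_succ', Module.End.mul_apply, hN, LinearMap.sub_apply, Module.End.one_apply, map_sub,
      LinearMap.sub_apply, h0, sub_self]

open scoped Classical in
/-- A symplectic space of dimension `2m` has `q^(2m^2)` unipotent isometries. -/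
theorem card_uni : ∀ (m : ℕ) (V : Type v) [AddCommGroup V] [Module F V] [Finite V] (B : V →ₗ[F] V →ₗ[F] F),
    Symp B → finrank F V = 2 * m → Nat.card (Uni B) = Fintype.card F ^ (2 * m ^ 2) := by
  intro m
  induction m using Nat.strong_induction_on with
  | _ m ih =>
    intro V _ _ _ B hB hd
    set q := Fintype.card F with hq
    haveI : Finite (Submodule F V) := Finite.of_injective _ SetLike.coe_injective
    haveI : Fintype (Submodule F V) := Fintype.ofFinite _
    haveI : Finite (Module.End F V) := Finite.of_injective _ DFunLike.coe_injective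
    haveI : Fintype (Uni B) := Fintype.ofFinite _
    set IS := Finset.univ.filter (TIso B) with hIS
    set Fx : Submodule F V → Finset (Uni B) := fun W => Finset.univ.filter fun g => ∀ x ∈ W, g.1 x = x with hFx
    set one : Uni B := ⟨1, fun _ _ => rfl, by rw [sub_self]; exact IsNilpotent.zero⟩ with hone
    -- only the identity contributes to the double sum
    have hswap : ∑ W ∈ IS, mob q (finrank F (W : Submodule F V)) * ((Fx W).card : ℤ) =
        ∑ W ∈ IS, mob q (finrank F (W : Submodule F V)) := by
      calc ∑ W ∈ IS, mob q (finrank F (W : Submodule F V)) * ((Fx W).card : ℤ)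
          = ∑ W ∈ IS, ∑ g : Uni B, if ∀ x ∈ W, g.1 x = x then mob q (finrank F (W : Submodule F V)) else 0 := by
            refine Finset.sum_congr rfl fun W _ => ?_
            rw [← Finset.sum_filter, Finset.sum_const, nsmul_eq_mul, hFx]; ring
        _ = ∑ g : Uni B, ∑ W ∈ IS, if ∀ x ∈ W, g.1 x = x then mob q (finrank F (W : Submodule F V)) else 0 :=
            Finset.sum_comm
        _ = ∑ W ∈ IS, mob q (finrank F (W : Submodule F V)) := by
            rw [Finset.sum_eq_single one (fun g _ hg => ?_) (by simp)]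
            · exact Finset.sum_congr rfl fun W _ => if_pos fun x _ => rfl
            · obtain ⟨l, hl0, hgl, hrad⟩ := exists_radical g fun h => hg (Subtype.ext h)
              have hU : ∀ W : Submodule F V, (∀ x ∈ W, g.1 x = x) ↔ W ≤ LinearMap.ker (g.1 - 1) := fun W => by
                simp [SetLike.le_def, sub_eq_zero]
              rw [← Finset.sum_filter, hIS, Finset.filter_filter]
              simp only [hU]
              exact sum_mob_eq_zero (B := B) (U := LinearMap.ker (g.1 - 1)) (l := l) (by simp [hgl]) hl0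
                (fun u hu => hrad u (by simpa [sub_eq_zero] using hu)) hB
    have hFxcard : ∀ W ∈ IS, finrank F (W : Submodule F V) ≠ 0 → finrank F (W : Submodule F V) ≤ m →
        (Fx W).card = q ^ expo m (finrank F W) * q ^ (2 * (m - finrank F W) ^ 2) := by
      intro W hW hk0 hkm
      simp only [hIS, Finset.mem_filter, Finset.mem_univ, true_and] at hW
      set k := finrank F W with hk
      let b := Module.finBasisOfFinrankEq F W hk.symm
      let t : Fin k → V := fun i => (b i : V)
      have ht : IsIso B t := ⟨b.linearIndependent.map' W.subtype (ker_subtype _), fun i j => hW _ (b i).2 _ (b j).2⟩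
      have hspan : ∀ g : Uni B, (∀ x ∈ W, g.1 x = x) ↔ ∀ i, g.1 (t i) = t i := fun g => by
        refine ⟨fun h i => h _ (b i).2, fun h x hx => ?_⟩
        have he : g.1 ∘ₗ W.subtype = W.subtype := b.ext h
        exact LinearMap.congr_fun he ⟨x, hx⟩
      rw [show (Fx W).card = Nat.card (UniFix B t) by
        rw [Nat.card_eq_fintype_card, Fintype.card_subtype, hFx]; exact congrArg Finset.card (Finset.filter_congr fun g _ => hspan g)]
      rw [card_uniFix (m - k) _ (fun W' _ _ _ C hC hd' => ih (m - k) (by omega) W' C hC hd') k B hB (by omega) t ht,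
        show k + (m - k) = m by omega, ← hq]
    set u : ℕ := Nat.card (Uni B) with hu
    set c : ℕ → ℤ := fun k => if k = 0 then (u : ℤ) else (q : ℤ) ^ expo m k * (q : ℤ) ^ (2 * (m - k) ^ 2) with hc
    have hsum : ∑ W ∈ IS, mob q (finrank F (W : Submodule F V)) * ((Fx W).card : ℤ) =
        ∑ k ∈ Finset.range (m + 1), (iso q m k : ℤ) * (mob q k * c k) := by
      rw [hq, ← sum_tiso hB hd (fun k => mob q k * c k)]
      refine Finset.sum_congr (by rw [hIS]) fun W hW => ?_
      by_cases hk0 : finrank F (W : Submodule F V) = 0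
      · simp only [hc, if_pos hk0, hu]
        have : W = ⊥ := Submodule.finrank_eq_zero.mp hk0
        subst this
        rw [show Fx ⊥ = Finset.univ by simp [hFx], Finset.card_univ, Nat.card_eq_fintype_card]
      · have hle : finrank F (W : Submodule F V) ≤ m := by
          by_contra hlt
          have h0 := card_tiso hB hd (finrank F W)
          rw [iso_eq_zero _ (by omega), Nat.card_eq_zero] at h0
          rcases h0 with h0 | h0
          · exact h0.elim ⟨W, rfl, (Finset.mem_filter.mp hW).2⟩
          · exact h0.not_finite inferInstance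
        simp only [hc, if_neg hk0]
        rw [hFxcard W hW hk0 hle]
        push_cast
        rfl
    rw [hsum, hIS, sum_tiso hB hd (mob q), ← hq] at hswap
    have hA : ∑ k ∈ Finset.range (m + 1), (iso q m k : ℤ) * mob q k = (-1) ^ m * (q : ℤ) ^ (m ^ 2) := by
      rw [← sum_iso_tri q m]; refine Finset.sum_congr rfl fun k _ => ?_; rw [mob]; ring
    have hB' : ∑ k ∈ Finset.range (m + 1), (iso q m k : ℤ) * (mob q k * ((q : ℤ) ^ expo m k * (q : ℤ) ^ (2 * (m - k) ^ 2))) =
        (-1) ^ m * (q : ℤ) ^ (m ^ 2) := by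
      rw [← sum_iso_sq q m, Finset.sum_mul]
      refine Finset.sum_congr rfl fun k hk => ?_
      rw [Finset.mem_range] at hk
      obtain ⟨j, rfl⟩ := Nat.exists_eq_add_of_le (Nat.le_of_lt_succ hk)
      rw [Nat.add_sub_cancel_left, mob]
      calc (iso q (k + j) k : ℤ) * ((-1) ^ k * (q : ℤ) ^ tri k * ((q : ℤ) ^ expo (k + j) k * (q : ℤ) ^ (2 * j ^ 2)))
          = (iso q (k + j) k : ℤ) * (-1) ^ k * (q : ℤ) ^ (expo (k + j) k + tri k + 2 * j ^ 2) := by
            rw [pow_add, pow_add]; ring
        _ = (-1) ^ k * (iso q (k + j) k : ℤ) * (q : ℤ) ^ (j ^ 2) * (q : ℤ) ^ ((k + j) ^ 2) := by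
            rw [expo_add, pow_add]; ring
    rw [hA, ← hB', Finset.sum_range_succ', Finset.sum_range_succ'] at hswap
    simp only [hc, Nat.succ_ne_zero, if_false, if_true, add_right_inj] at hswap
    have h0 : iso q m 0 = 1 := by cases m <;> rfl
    have he : expo m 0 = 0 := by cases m <;> rfl
    simp only [h0, he, mob, tri, pow_zero, Nat.cast_one, one_mul, Nat.sub_zero] at hswap
    exact_mod_cast hswap

end Cfsg.Agent.SpUnipotent1
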